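/-
Norms of integral tensors: integrality and regularity.
-/
import Mathlib
import Groth.Agent.HilbBurch.Basic

universe u

noncomputable section

namespace Groth.Agent.NormReg

open TensorProduct

theorem det_mem_nonZeroDivisors_iff {R : Type u} [CommRing R] {d : ℕ} (M : Matrix (Fin d) (Fin d) R) :
    M.det ∈ nonZeroDivisors R ↔ Function.Injective M.mulVec := by
  refine ⟨Matrix.mulVec_injective_of_det_mem_nonZeroDivisors, fun h => mem_nonZeroDivisors_iff_right.2 fun c hc => ?_⟩
  classical
  refine HilbBurch.mccoy M h c fun f g => ?_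
  by_cases hf : Function.Injective f
  · by_cases hg : Function.Injective g
    · let ef := Equiv.ofBijective f (Finite.injective_iff_bijective.1 hf)
      let eg := Equiv.ofBijective g (Finite.injective_iff_bijective.1 hg)
      have : (M.submatrix f g).det = (Equiv.Perm.sign eg : ℤ) * ((Equiv.Perm.sign ef : ℤ) * M.det) := by
        rw [← Matrix.det_permute ef M, ← Matrix.det_permute' eg (M.submatrix ef id), Matrix.submatrix_submatrix]
        rfl
      rw [this, mul_left_comm, mul_left_comm c, hc, mul_zero, mul_zero]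
    · obtain ⟨a, b, hab, hne⟩ : ∃ a b, g a = g b ∧ a ≠ b := by simpa [Function.Injective] using hg
      rw [Matrix.det_zero_of_column_eq hne fun i => by simp [hab], mul_zero]
  · obtain ⟨a, b, hab, hne⟩ : ∃ a b, f a = f b ∧ a ≠ b := by simpa [Function.Injective] using hf
    rw [Matrix.det_zero_of_row_eq hne (by ext i; simp [hab]), mul_zero]

/-- The determinant of an integral matrix is integral. -/
theorem det_isIntegral {R F : Type u} [CommRing R] [CommRing F] [IsDomain F] [Algebra R F] {d : ℕ}
    (M : Matrix (Fin d) (Fin d) F) (P : Polynomial R) (hP : P.Monic)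
    (h : Polynomial.aeval M (P.map (algebraMap R F)) = 0) : IsIntegral R M.det := by
  classical
  let Ω := AlgebraicClosure (FractionRing F)
  let j : F →+* Ω := algebraMap F Ω
  have hj : Function.Injective j := by
    show Function.Injective (algebraMap F Ω)
    rw [IsScalarTower.algebraMap_eq F (FractionRing F) Ω]
    exact (algebraMap (FractionRing F) Ω).injective.comp (IsFractionRing.injective F _)
  letI : Algebra R Ω := (j.comp (algebraMap R F)).toAlgebra
  let f : F →ₐ[R] Ω := { j with commutes' := fun _ => rfl }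
  rw [← isIntegral_algHom_iff f hj]
  set M' := M.map j
  have hdet : f M.det = M'.det := j.map_det M
  rw [hdet, Matrix.det_eq_prod_roots_charpoly]
  refine IsIntegral.multiset_prod fun x hx => ⟨P, hP, ?_⟩
  have hx' : (Matrix.scalar (Fin d) x - M').det = 0 := by
    rw [← Matrix.eval_charpoly]; exact (Polynomial.mem_roots'.1 hx).2
  set Q := P.map (algebraMap R Ω)
  obtain ⟨G, hG⟩ := Polynomial.X_sub_C_dvd_sub_C_eval (a := x) (p := Q)
  have hQM : Polynomial.aeval M' Q = 0 := by
    have h1 := congrArg (j.mapMatrix) h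
    rw [map_zero, Polynomial.aeval_def, Polynomial.hom_eval₂, Polynomial.eval₂_map] at h1
    rw [Polynomial.aeval_def, Polynomial.eval₂_map]
    refine (congrArg (fun φ => Polynomial.eval₂ φ M' P) ?_).trans h1
    ext r i l
    by_cases hil : i = l <;> simp [Matrix.algebraMap_matrix_apply, hil, RingHom.algebraMap_toAlgebra]
  have h2 := congrArg (Polynomial.aeval M') hG
  rw [map_sub, hQM, Polynomial.aeval_C, map_mul, map_sub, Polynomial.aeval_X, Polynomial.aeval_C, zero_sub] at h2
  have h3 := congrArg Matrix.det h2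
  rw [Matrix.det_mul, ← neg_sub (algebraMap Ω _ x) M', Matrix.det_neg (algebraMap Ω _ x - M'),
    show algebraMap Ω (Matrix (Fin d) (Fin d) Ω) x = Matrix.scalar (Fin d) x from rfl, hx', mul_zero, zero_mul,
    Matrix.det_neg, show algebraMap Ω (Matrix (Fin d) (Fin d) Ω) (Q.eval x) = Matrix.scalar (Fin d) (Q.eval x) from rfl,
    Matrix.scalar_apply, Matrix.det_diagonal, Finset.prod_const, mul_eq_zero] at h3
  rcases h3 with h3 | h3
  · exact absurd (pow_eq_zero_iff'.1 h3).1 (neg_ne_zero.2 one_ne_zero)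
  · rw [← Polynomial.eval_map]
    exact (pow_eq_zero_iff'.1 h3).1

variable {k A K L R : Type u} [Field k]
  [CommRing A] [IsDomain A] [IsIntegrallyClosed A] [Algebra k A]
  [Field K] [Algebra A K] [IsFractionRing A K] [Algebra k K] [IsScalarTower k A K]
  [Field L] [Algebra K L] [Algebra A L] [IsScalarTower A K L]
  [Algebra k L] [IsScalarTower k K L] [IsScalarTower k A L]
  [CommRing R] [Algebra k R]

variable {d : ℕ} (e : Module.Basis (Fin d) K L)

variable (k R) in
/-- Coordinates. -/
def coordR (i : Fin d) : L ⊗[k] R →ₗ[k] K ⊗[k] R := ((e.coord i).restrictScalars k).rTensor R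

variable (k R) in
/-- The map `K ⊗ R → L ⊗ R`. -/
abbrev φR : K ⊗[k] R →ₐ[k] L ⊗[k] R :=
  Algebra.TensorProduct.map (IsScalarTower.toAlgHom k K L) (AlgHom.id k R)

theorem coordR_φR_mul (x : K ⊗[k] R) (l : L) (i : Fin d) :
    coordR k R e i (φR k R x * (l ⊗ₜ 1)) = x * (e.coord i l ⊗ₜ 1) := by
  induction x using TensorProduct.induction_on with
  | zero => simp
  | tmul c r =>
    simp only [coordR, φR, Algebra.TensorProduct.map_tmul, Algebra.TensorProduct.tmul_mul_tmul, mul_one,
      LinearMap.rTensor_tmul, LinearMap.restrictScalars_apply, IsScalarTower.coe_toAlgHom', AlgHom.id_apply,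
      ← Algebra.smul_def, map_smul, smul_eq_mul]
  | add x y hx hy => simp only [map_add, add_mul, hx, hy]

theorem sum_φR_coordR (y : L ⊗[k] R) : ∑ i, φR k R (coordR k R e i y) * (e i ⊗ₜ 1) = y := by
  induction y using TensorProduct.induction_on with
  | zero => simp
  | tmul l r =>
    simp only [coordR, φR, LinearMap.rTensor_tmul, LinearMap.restrictScalars_apply, Algebra.TensorProduct.map_tmul,
      Algebra.TensorProduct.tmul_mul_tmul, mul_one, IsScalarTower.coe_toAlgHom', AlgHom.id_apply, ← Algebra.smul_def,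
      ← TensorProduct.sum_tmul]
    rw [show (∑ i, e.coord i l • e i) = l from e.sum_repr l]
  | add x y hx hy => simp only [map_add, add_mul, Finset.sum_add_distrib, hx, hy]

variable (k R) in
/-- The matrix of multiplication. -/
def mat (y : L ⊗[k] R) : Matrix (Fin d) (Fin d) (K ⊗[k] R) := fun i j => coordR k R e i (y * (e j ⊗ₜ 1))

variable (k R) in
theorem exists_basis :
    letI : Algebra (K ⊗[k] R) (L ⊗[k] R) := (φR k R (K := K) (L := L)).toRingHom.toAlgebra
    ∃ B : Module.Basis (Fin d) (K ⊗[k] R) (L ⊗[k] R), ∀ y, Algebra.leftMulMatrix B y = mat k R e y := by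
  letI : Algebra (K ⊗[k] R) (L ⊗[k] R) := (φR k R (K := K) (L := L)).toRingHom.toAlgebra
  let Φ : (L ⊗[k] R) ≃ₗ[K ⊗[k] R] (Fin d → K ⊗[k] R) :=
    LinearEquiv.symm
    { toFun := fun v => ∑ i, v i • (e i ⊗ₜ[k] (1 : R))
      map_add' := fun v w => by simp [add_smul, Finset.sum_add_distrib]
      map_smul' := fun c v => by simp [mul_smul, Finset.smul_sum]
      invFun := fun y i => coordR k R e i y
      left_inv := fun v => funext fun i => by
        show coordR k R e i (∑ l, v l • (e l ⊗ₜ[k] (1 : R))) = v i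
        rw [map_sum, Finset.sum_eq_single i]
        · show coordR k R e i (φR k R (v i) * _) = _
          rw [coordR_φR_mul, Module.Basis.coord_apply, e.repr_self, Finsupp.single_eq_same, ← Algebra.TensorProduct.one_def,
            mul_one]
        · intro j _ hj
          show coordR k R e i (φR k R (v j) * _) = _
          rw [coordR_φR_mul, Module.Basis.coord_apply, e.repr_self, Finsupp.single_eq_of_ne hj.symm, zero_tmul, mul_zero]
        · exact fun h => absurd (Finset.mem_univ _) h
      right_inv := fun y => sum_φR_coordR e y }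
  refine ⟨Module.Basis.ofEquivFun Φ, fun y => Matrix.ext fun i j => ?_⟩
  rw [Algebra.leftMulMatrix_eq_repr_mul, Module.Basis.ofEquivFun_repr_apply]
  show coordR k R e i (y * Module.Basis.ofEquivFun Φ j) = _
  congr 2
  rw [Module.Basis.coe_ofEquivFun]
  show ∑ l, _ • (e l ⊗ₜ[k] (1 : R)) = _
  simp [Pi.single_apply, ite_smul]

theorem mat_tmul (l : L) (r : R) (i j : Fin d) : mat k R e (l ⊗ₜ r) i j = Algebra.leftMulMatrix e l i j ⊗ₜ r := by
  simp [mat, coordR, Algebra.leftMulMatrix_eq_repr_mul]

/-- Integrality of the determinant. -/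
theorem det_mem_range (b : (integralClosure A L) ⊗[k] R) :
    (mat k R e (Algebra.TensorProduct.map ((integralClosure A L).val.restrictScalars k) (AlgHom.id k R) b)).det ∈
      Set.range (Algebra.TensorProduct.map (IsScalarTower.toAlgHom k A K) (AlgHom.id k R)) := by
  classical
  obtain ⟨S, hS⟩ := TensorProduct.exists_finset b
  let bt : S → L := fun t => (t.1.1 : L)
  let PK := MvPolynomial S K
  let χ : L →ₐ[K] Matrix (Fin d) (Fin d) PK :=
    (Algebra.ofId K PK).mapMatrix.comp (Algebra.leftMulMatrix e)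
  let Θ : PK ⊗[K] L →ₐ[K] Matrix (Fin d) (Fin d) PK :=
    Algebra.TensorProduct.lift ((Algebra.ofId PK (Matrix (Fin d) (Fin d) PK)).restrictScalars K) χ
      (fun a x => Algebra.commutes a (χ x))
  let ι : MvPolynomial S A →+* PK ⊗[K] L := (Algebra.TensorProduct.includeLeftRingHom).comp (MvPolynomial.map (algebraMap A K))
  let s : PK ⊗[K] L := ∑ t, (MvPolynomial.X t : PK) ⊗ₜ[K] bt t
  have hint : ι.IsIntegralElem s := by
    have hterm : ∀ t, ι.IsIntegralElem ((MvPolynomial.X t : PK) ⊗ₜ[K] bt t) := fun t => by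
      rw [show (MvPolynomial.X t : PK) ⊗ₜ[K] bt t =
        (MvPolynomial.X t : PK) ⊗ₜ[K] (1 : L) * (1 : PK) ⊗ₜ[K] bt t by
        rw [Algebra.TensorProduct.tmul_mul_tmul, mul_one, one_mul]]
      refine RingHom.IsIntegralElem.mul _ ?_ ?_
      · rw [show (MvPolynomial.X t : PK) ⊗ₜ[K] (1 : L) = ι (MvPolynomial.X t) from
          (congrArg (fun z => z ⊗ₜ[K] (1 : L)) (MvPolynomial.map_X (algebraMap A K) t)).symm]
        exact RingHom.isIntegralElem_map _
      · obtain ⟨p, hp, hp0⟩ := t.1.1.2
        refine ⟨p.map MvPolynomial.C, hp.map _, ?_⟩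
        rw [Polynomial.eval₂_map]
        have : ι.comp MvPolynomial.C =
            (Algebra.TensorProduct.includeRight : L →ₐ[K] PK ⊗[K] L).toRingHom.comp (algebraMap A L) := by
          refine RingHom.ext fun a => ?_
          show MvPolynomial.map (algebraMap A K) (MvPolynomial.C a) ⊗ₜ[K] (1 : L) = (1 : PK) ⊗ₜ[K] algebraMap A L a
          rw [MvPolynomial.map_C, IsScalarTower.algebraMap_apply A K L, ← MvPolynomial.algebraMap_eq,
            Algebra.algebraMap_eq_smul_one, Algebra.algebraMap_eq_smul_one (A := L), TensorProduct.smul_tmul]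
        rw [this, show (1 : PK) ⊗ₜ[K] bt t = (Algebra.TensorProduct.includeRight : L →ₐ[K] PK ⊗[K] L).toRingHom (bt t) from rfl,
          ← Polynomial.hom_eval₂, hp0, map_zero]
    exact Finset.sum_induction _ ι.IsIntegralElem (fun x y => RingHom.IsIntegralElem.add _) (RingHom.isIntegralElem_zero _)
      fun t _ => hterm t
  obtain ⟨P, hP, hP0⟩ := hint
  letI : Algebra (MvPolynomial S A) PK := MvPolynomial.algebraMvPolynomial
  have hD : IsIntegral (MvPolynomial S A) (Θ s).det := by
    refine det_isIntegral (Θ s) P hP ?_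
    have h1 := congrArg Θ.toRingHom hP0
    rw [map_zero, Polynomial.hom_eval₂] at h1
    rw [Polynomial.aeval_def, Polynomial.eval₂_map]
    refine (congrArg (fun φ => Polynomial.eval₂ φ (Θ s) P) ?_).trans h1
    refine RingHom.ext fun q => ?_
    show _ = Θ ((MvPolynomial.map (algebraMap A K) q) ⊗ₜ[K] (1 : L))
    rw [Algebra.TensorProduct.lift_tmul, map_one, mul_one]
    rfl
  obtain ⟨D, hDeq⟩ : (Θ s).det ∈ (MvPolynomial.map (algebraMap A K) : MvPolynomial S A →+* PK).range := by
    refine MvPolynomial.mem_range_map_iff_coeffs_subset.2 fun c hc => ?_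
    obtain ⟨m, -, rfl⟩ := MvPolynomial.mem_coeffs_iff.1 hc
    exact IsIntegrallyClosed.isIntegral_iff.1 (MvPolynomial.isIntegral_iff_isIntegral_coeff.1 hD m)
  let ev : PK →ₐ[K] K ⊗[k] R := MvPolynomial.aeval fun t => (1 : K) ⊗ₜ[k] t.1.2
  have hevX : ∀ t : S, ev (MvPolynomial.X t) = (1 : K) ⊗ₜ[k] t.1.2 := fun t => MvPolynomial.aeval_X _ t
  have hevC : ∀ c : K, ev (MvPolynomial.C c) = c ⊗ₜ[k] (1 : R) := fun c => MvPolynomial.aeval_C _ c
  have hmat : mat k R e (Algebra.TensorProduct.map ((integralClosure A L).val.restrictScalars k) (AlgHom.id k R) b) =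
      ev.mapMatrix (Θ s) := by
    ext i j
    conv_lhs => rw [hS, map_sum, ← Finset.sum_coe_sort S]
    simp only [mat, Finset.sum_mul, map_sum, s, Matrix.sum_apply, AlgHom.mapMatrix_apply, Matrix.map_apply]
    refine Finset.sum_congr rfl fun t _ => ?_
    refine (mat_tmul e (bt t) t.1.2 i j).trans ?_
    rw [show Θ ((MvPolynomial.X t : PK) ⊗ₜ[K] bt t) = (MvPolynomial.X t : PK) • χ (bt t) by
      rw [Algebra.TensorProduct.lift_tmul, Algebra.smul_def]; rfl]
    rw [Matrix.smul_apply, smul_eq_mul, map_mul]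
    rw [hevX, show χ (bt t) i j = MvPolynomial.C (Algebra.leftMulMatrix e (bt t) i j) from rfl, hevC,
      Algebra.TensorProduct.tmul_mul_tmul, one_mul, mul_one]
  rw [hmat, ← AlgHom.map_det, ← hDeq]
  let ψ : A ⊗[k] R →ₐ[k] K ⊗[k] R := Algebra.TensorProduct.map (IsScalarTower.toAlgHom k A K) (AlgHom.id k R)
  show ev (MvPolynomial.map (algebraMap A K) D) ∈ (ψ.range : Set (K ⊗[k] R))
  clear hDeq
  induction D using MvPolynomial.induction_on with
  | C a =>
    refine ⟨a ⊗ₜ 1, ?_⟩
    rw [MvPolynomial.map_C, hevC]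
    simp [ψ]
  | add p q hp hq => rw [map_add, map_add]; exact add_mem hp hq
  | mul_X p t hp =>
    rw [map_mul, map_mul]
    refine mul_mem hp ⟨1 ⊗ₜ t.1.2, ?_⟩
    rw [MvPolynomial.map_X, hevX]
    simp [ψ]

/-- Regularity. -/
theorem isRegular_iff [FiniteDimensional K L] (b : (integralClosure A L) ⊗[k] R) :
    IsRegular b ↔ IsRegular (mat k R e
      (Algebra.TensorProduct.map ((integralClosure A L).val.restrictScalars k) (AlgHom.id k R) b)).det := by
  classical
  set μ := Algebra.TensorProduct.map ((integralClosure A L).val.restrictScalars k) (AlgHom.id k R) with hμ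
  have hμinj : Function.Injective μ := by
    have : Function.Injective ((((integralClosure A L).val.restrictScalars k).toLinearMap).rTensor R) :=
      Module.Flat.rTensor_preserves_injective_linearMap _ Subtype.val_injective
    exact this
  have hclear : ∀ y : L ⊗[k] R, ∃ (a : A) (x : (integralClosure A L) ⊗[k] R), a ≠ 0 ∧
      μ x = (algebraMap A L a ⊗ₜ 1) * y := by
    intro y
    induction y using TensorProduct.induction_on with
    | zero => exact ⟨1, 0, one_ne_zero, by simp⟩
    | tmul l r =>
      obtain ⟨⟨a, ha⟩, hint⟩ := IsIntegral.exists_multiple_integral_of_isLocalization (nonZeroDivisors A) l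
        (IsIntegral.of_finite K l)
      refine ⟨a, ⟨_, hint⟩ ⊗ₜ r, nonZeroDivisors.ne_zero ha, ?_⟩
      rw [Algebra.TensorProduct.tmul_mul_tmul, one_mul]
      simp [hμ, Submonoid.smul_def, Algebra.smul_def]
    | add y z hy hz =>
      obtain ⟨a, x, ha, hx⟩ := hy
      obtain ⟨a', x', ha', hx'⟩ := hz
      refine ⟨a * a', (algebraMap A (integralClosure A L) a' ⊗ₜ 1) * x + (algebraMap A (integralClosure A L) a ⊗ₜ 1) * x',
        mul_ne_zero ha ha', ?_⟩
      have hm : ∀ c : A, μ (algebraMap A (integralClosure A L) c ⊗ₜ 1) = algebraMap A L c ⊗ₜ 1 := fun c => by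
        simp [hμ]
      have he : (algebraMap A L (a * a')) ⊗ₜ[k] (1 : R) = algebraMap A L a ⊗ₜ 1 * algebraMap A L a' ⊗ₜ 1 := by
        rw [Algebra.TensorProduct.tmul_mul_tmul, map_mul, mul_one]
      rw [map_add, map_mul, map_mul, hm, hm, hx, hx', he]
      ring
  have hunit : ∀ a : A, a ≠ 0 → IsUnit (algebraMap A L a ⊗ₜ[k] (1 : R) : L ⊗[k] R) := fun a ha => by
    refine (isUnit_iff_ne_zero.2 ?_ : IsUnit (algebraMap A L a)).map (Algebra.TensorProduct.includeLeftRingHom (R := k) (B := R))
    rw [IsScalarTower.algebraMap_apply A K L]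
    exact (map_ne_zero _).2 fun h => ha (IsFractionRing.injective A K (h.trans (map_zero _).symm))
  have h1 : IsRegular b ↔ ∀ y, μ b * y = 0 → y = 0 := by
    rw [isRegular_iff_mem_nonZeroDivisors, mem_nonZeroDivisors_iff_left]
    refine ⟨fun h y hy => ?_, fun h x hx => hμinj ?_⟩
    · obtain ⟨a, x, ha, hx⟩ := hclear y
      have : b * x = 0 := hμinj (by rw [map_mul, map_zero, hx, mul_left_comm, hy, mul_zero])
      rw [h x this, map_zero] at hx
      exact (hunit a ha).mul_right_eq_zero.1 hx.symm
    · rw [map_zero]; exact h _ (by rw [← map_mul, hx, map_zero])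
  letI : Algebra (K ⊗[k] R) (L ⊗[k] R) := (φR k R (K := K) (L := L)).toRingHom.toAlgebra
  obtain ⟨B, hB⟩ := exists_basis k R e
  rw [h1, isRegular_iff_mem_nonZeroDivisors, ← hB, det_mem_nonZeroDivisors_iff]
  have h2 : ∀ y, (Algebra.leftMulMatrix B (μ b)).mulVec (B.equivFun y) = B.equivFun (μ b * y) := fun y =>
    funext fun i => (congrFun (Algebra.leftMulMatrix_mulVec_repr B (μ b) y) i)
  constructor
  · intro h v w hvw
    obtain ⟨v, rfl⟩ := B.equivFun.surjective v
    obtain ⟨w, rfl⟩ := B.equivFun.surjective w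
    rw [h2, h2] at hvw
    exact congrArg _ (sub_eq_zero.1 (h _ (by rw [mul_sub, B.equivFun.injective hvw, sub_self])))
  · intro h y hy
    refine B.equivFun.injective (h ?_)
    rw [h2, hy, map_zero, Matrix.mulVec_zero]

end Groth.Agent.NormReg
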